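import Cfsg.Agent.H767.EB515.Types
import Cfsg.Agent.H611.EB515.Iff

/-!
# S4515, R10 in the form the assembly uses (helper767)
-/

set_option autoImplicit false

namespace Cfsg.Agent.H767.EB515

open Cfsg Cfsg.Agent.H611.EB515

universe u

theorem cardRow : CardRow.{u} := fun _ _ _ _ hna hab P => card_sylow hna hab P

theorem oddRow : OddRow.{u} := fun _ hM _ _ _ _ hna hab => odd_row hM hna hab

end Cfsg.Agent.H767.EB515
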