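import Cfsg.Agent.S2921
import Cfsg.Agent.Walter.PSLFacts
import Cfsg.Agent.H41.EB515.Rows
import Cfsg.Agent.H191.EB515.OddRee
import Cfsg.Agent.H808.EB515.JOne

/-!
# S4515, R10: simple groups with abelian Sylow 2-subgroups (helper767)

* `types` : the list;
* `card_sylow` : the orders of the Sylow 2-subgroups;
* `odd_row` : all members of the principal 2-block have odd degree.
-/

set_option autoImplicit false

namespace Cfsg.Agent.H767.EB515

open Cfsg Subgroup Cfsg.Agent.Walter.Types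

universe u

variable {S : Type u} [Group S] [Finite S] [IsSimpleGroup S]

theorem wType (hna : ¬ IsMulCommutative S) (hab : ∀ P : Sylow 2 S, IsMulCommutative P) : WType S := by
  obtain ⟨P⟩ : Nonempty (Sylow 2 S) := inferInstance
  exact S2921.wType inferInstance hna P
    (fun a ha b hb => congrArg Subtype.val ((hab P).is_comm.comm ⟨a, ha⟩ ⟨b, hb⟩))

theorem sl_of_even (h : IsEvenType S) : ∃ (F : Type) (_ : Field F) (_ : Fintype F) (e : ℕ), 2 ≤ e ∧
    Fintype.card F = 2 ^ e ∧ Nonempty (S ≃* Matrix.SpecialLinearGroup (Fin 2) F) := by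
  obtain ⟨F, i1, i2, n, h1, h2, ⟨f⟩⟩ := h
  have hchar : CharP F 2 := by
    obtain ⟨p, hp⟩ := CharP.exists F
    obtain ⟨m, hm, hpm⟩ := FiniteField.card F p
    have h3 : p = 2 := by
      have h4 : p ∣ 2 ^ n := by
        rw [← h2, hpm]
        exact dvd_pow_self p (by positivity)
      exact (Nat.prime_dvd_prime_iff_eq hm Nat.prime_two).mp (hm.dvd_of_dvd_pow h4)
    exact h3 ▸ hp
  obtain ⟨g⟩ := Cfsg.Agent.WeakTI.PslTwo.nonempty_equiv (F := F)
  exact ⟨F, i1, i2, n, h1, h2, ⟨f.trans g.symm⟩⟩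

/-- [R10] the simple groups with abelian Sylow 2-subgroups -/
theorem types (hna : ¬ IsMulCommutative S) (hab : ∀ P : Sylow 2 S, IsMulCommutative P) :
    (∃ (F : Type) (_ : Field F) (_ : Fintype F) (e : ℕ), 2 ≤ e ∧ Fintype.card F = 2 ^ e ∧
      Nonempty (S ≃* Matrix.SpecialLinearGroup (Fin 2) F)) ∨
    Cfsg.Lie.IsoRee S ∨ Cfsg.Spor.IsoJ1 S ∨ ∀ P : Sylow 2 S, Nat.card P = 4 := by
  rcases S2921.iso inferInstance hna (wType hna hab) with h | h | h | h
  · exact Or.inl (sl_of_even h)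
  · exact Or.inr (Or.inr (Or.inr fun P => (Walter.PSLFacts.IsOddType.facts h P).2.1))
  · exact Or.inr (Or.inl h)
  · exact Or.inr (Or.inr (Or.inl h))

/-- [R10] their Sylow 2-subgroups -/
theorem card_sylow (hna : ¬ IsMulCommutative S) (hab : ∀ P : Sylow 2 S, IsMulCommutative P) (P : Sylow 2 S) :
    Nat.card P = 4 ∨ Nat.card P = 8 ∨
    (∃ (F : Type) (_ : Field F) (_ : Fintype F) (e : ℕ), 2 ≤ e ∧ Fintype.card F = 2 ^ e ∧
      Nonempty (S ≃* Matrix.SpecialLinearGroup (Fin 2) F)) := by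
  rcases wType hna hab with h | h | h
  · exact Or.inr (Or.inr (sl_of_even h))
  · exact Or.inl (Walter.PSLFacts.IsOddType.facts h P).2.1
  · obtain ⟨⟨Q, hQ, -⟩, -⟩ := h
    exact Or.inr (Or.inl ((Nat.card_congr (P.equiv Q).toEquiv).trans hQ))

/-- [R10] their principal 2-blocks -/
theorem odd_row {M : Ideal AlgInt} (hM : IsPModular 2 M) (hna : ¬ IsMulCommutative S)
    (hab : ∀ P : Sylow 2 S, IsMulCommutative P) :
    ∀ χ ∈ principalBlock M S, Odd (charDegree (χ : S → ℂ)) := by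
  intro χ hχ
  rcases types hna hab with ⟨F, i1, i2, e, he, hF, hS⟩ | h | h | h
  · exact H41.EB515.odd_of_sl2 F e he hF hS hM χ hχ
  · exact H191.EB515.odd_of_isoRee h hM χ hχ
  · exact H808.EB515.odd_of_isoJ1 h hM χ hχ
  · obtain ⟨P⟩ : Nonempty (Sylow 2 S) := inferInstance
    exact H41.EB515.odd_of_four hna P (h P) hM χ hχ

end Cfsg.Agent.H767.EB515
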